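import Groth.Agent.Dix.K733.PicNat
import Groth.Agent.Etcore.Kappa228
import Groth.Agent.Sga5.H848.PullMu
import Groth.Agent.S0108

/-!
# A criterion for the vanishing of torsion classes in `H²(-, G_m)`

`f : X ⟶ Y` with `H²(Y, μ_n) → H²(X, μ_n)` injective, `H²(X, G_m) = 0` and
`H¹(Y, G_m) → H¹(X, G_m) / n` surjective: then `H²(Y, G_m)` has no `n`-torsion.
-/

set_option autoImplicit false
universe u
open CategoryTheory CategoryTheory.Limits AlgebraicGeometry Opposite Abelian Groth.Agent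
open scoped Groth.Agent.Etcore.EtInst
open Groth.Agent.Etcore.EtInst Groth.Agent.Etcore.PullCoh Groth.Agent.Etcore.HpullCalc
open Groth.Agent.Etcore.HC Groth.Agent.Etcore.GmFun Groth.Agent.Etcore.KummerCls
open Groth.Agent.Sga4B.KummerH1 (delta conn kummer_shortExact)

namespace K733.BrCrit

variable {X Y : Scheme.{u}}

theorem HG_eq (f : X ⟶ Y) (q : ℕ) : Etcore.Kappa228.HG f q = HG f q := rfl

/-- The Kummer boundary. -/
noncomputable def dl (n : ℕ) (h : Epi (EtCoh.powMap X n)) (q : ℕ) :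
    HH X (EtCoh.Gm X) q →+ HH X (EtCoh.mu X n) (q + 1) :=
  delta X n h q

/-- Naturality of the Kummer boundary. -/
theorem HM_dl (n : ℕ) (hX : Epi (EtCoh.powMap X n)) (hY : Epi (EtCoh.powMap Y n)) (f : X ⟶ Y)
    (q : ℕ) (x : HH Y (EtCoh.Gm Y) q) :
    Etcore.Kappa228.HM n f (q + 1) (dl n hY q x) = dl n hX q (HG f q x) := by
  let φ : (Etcore.Kappa228.KS n Y).map (EtCoh.pull f) ⟶ Etcore.Kappa228.KS n X :=
    { τ₁ := Etcore.Kappa228.pullMu n f
      τ₂ := Etcore.Kappa228.pullGm f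
      τ₃ := Etcore.Kappa228.pullGm f
      comm₁₂ := Etcore.Kappa228.pullMu_ι n f
      comm₂₃ := by
        change Etcore.Kappa228.pullGm f ≫ (n • 𝟙 (EtCoh.Gm X)) =
          (EtCoh.pull f).map (n • 𝟙 (EtCoh.Gm Y)) ≫ Etcore.Kappa228.pullGm f
        rw [Functor.map_nsmul, Preadditive.comp_nsmul, Preadditive.nsmul_comp,
          CategoryTheory.Functor.map_id, Category.comp_id, Category.id_comp] }
  exact hpl_extClass f (kummer_shortExact Y n hY) (kummer_shortExact X n hX) φ rfl x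

theorem dl_nsmul (n : ℕ) (h : Epi (EtCoh.powMap X n)) (q : ℕ) (x : HH X (EtCoh.Gm X) q) :
    dl n h q (n • x) = 0 :=
  Groth.Agent.Sga4B.KummerH1.conn_nsmul _ _ n _ (kummer_shortExact X n h) q x

theorem exists_dl_eq (n : ℕ) (h : Epi (EtCoh.powMap X n)) (q : ℕ)
    (x : HH X (EtCoh.mu X n) (q + 1)) (hx : HHmap (EtCoh.muι X n) (q + 1) x = 0) :
    ∃ y, dl n h q y = x :=
  Groth.Agent.Sga4B.KummerH1.exists_conn_eq _ _ n _ (kummer_shortExact X n h) q x hx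

theorem HHmap_muι_dl (n : ℕ) (h : Epi (EtCoh.powMap X n)) (q : ℕ) (x : HH X (EtCoh.Gm X) q) :
    HHmap (EtCoh.muι X n) (q + 1) (dl n h q x) = 0 := by
  have h1 := ShortComplex.ShortExact.extClass_comp (kummer_shortExact X n h)
  have h2 : dl n h q x = Ext.comp x (kummer_shortExact X n h).extClass rfl := rfl
  rw [h2, HHmap_apply, Ext.comp_assoc_of_third_deg_zero]
  refine (congrArg (fun e => Ext.comp x e rfl) h1).trans ?_
  exact Ext.comp_zero _ _ _ _ _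

theorem exists_HHmap_muι_eq (n : ℕ) (h : Epi (EtCoh.powMap X n)) (q : ℕ) (x : HH X (EtCoh.Gm X) q)
    (hx : n • x = 0) : ∃ y, HHmap (EtCoh.muι X n) q y = x := by
  obtain ⟨y, hy⟩ := Ext.covariant_sequence_exact₂ _ (kummer_shortExact X n h) x
    ((Groth.Agent.Sga4B.KummerH1.comp_nsmul_id n q x).trans hx)
  exact ⟨y, hy⟩

theorem isTorsion_mu (X : Scheme.{u}) (n : ℕ) (hn : 0 < n) : EtCoh.IsTorsion (EtCoh.mu X n) := by
  intro U s x
  refine ⟨U, 𝟙 U, ⟨x, rfl⟩, ?_⟩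
  rw [isOfFinAddOrder_iff_nsmul_eq_zero]
  exact ⟨n, hn, Groth.Agent.CurvesA.MuConst.nsmul_mu n U _⟩

theorem bijective_HM (n : ℕ) (hn : IsUnit (n : Γ(Y, ⊤))) (f : X ⟶ Y) (q : ℕ)
    (h : Function.Bijective (hp f (EtCoh.mu Y n) q)) :
    Function.Bijective (Etcore.Kappa228.HM n f q) := by
  have h1 := Groth.Agent.Sga5.H848.PullMu.isIso_pullMu f n hn
  exact (HHmap_bijective (Etcore.Kappa228.pullMu n f) q).comp h

/-- **The criterion.** -/
theorem eq_zero_of_nsmul (f : X ⟶ Y) (n : ℕ) (hY : IsUnit (n : Γ(Y, ⊤)))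
    (hbij : Function.Injective (Etcore.Kappa228.HM n f 2))
    (hX2 : Subsingleton (HH X (EtCoh.Gm X) 2))
    (hpic : ∀ a : HH X (EtCoh.Gm X) 1, ∃ (c : HH Y (EtCoh.Gm Y) 1) (b : HH X (EtCoh.Gm X) 1),
      HG f 1 c + n • b = a)
    (x : HH Y (EtCoh.Gm Y) 2) (hx : n • x = 0) : x = 0 := by
  have hX : IsUnit (n : Γ(X, ⊤)) := by
    have := hY.map f.appTop.hom
    rwa [map_natCast] at this
  have eY : Epi (EtCoh.powMap Y n) := S0108.result Y n hY
  have eX : Epi (EtCoh.powMap X n) := S0108.result X n hX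
  obtain ⟨y, hy⟩ := exists_HHmap_muι_eq n eY 2 x hx
  have h1 : HHmap (EtCoh.muι X n) 2 (Etcore.Kappa228.HM n f 2 y) = 0 := hX2.elim _ _
  obtain ⟨a, ha⟩ := exists_dl_eq n eX 1 _ h1
  obtain ⟨c, b, rfl⟩ := hpic a
  have h2 : Etcore.Kappa228.HM n f 2 (dl n eY 1 c) = Etcore.Kappa228.HM n f 2 y := by
    rw [← ha, map_add, dl_nsmul, add_zero]
    exact HM_dl n eX eY f 1 c
  have h3 := hbij h2
  rw [← hy, ← h3]
  exact HHmap_muι_dl n eY 1 c

end K733.BrCrit
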