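import Groth.Agent.Sga7.H731.ClsPull
import Groth.Agent.CurvesA.H1GmPicSurj
import Groth.Agent.Etcore.KummerCls
import Groth.Agent.Fdesc.LocGenPullback

/-!
# Naturality of the class of an invertible module in `H¹(X, G_m)`

* `HG_clsL`: `f^*` of the class of `L` is the class of `f^* L`;
* `HG_one_surjective`: if every invertible module on `X` comes from `Y` then `H¹(Y, G_m) → H¹(X, G_m)` is
  surjective.
-/

set_option autoImplicit false
universe u
open CategoryTheory CategoryTheory.Limits AlgebraicGeometry Opposite Abelian Groth.Agent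
open scoped Groth.Agent.Etcore.EtInst
open Groth.Agent.Etcore.EtInst Groth.Agent.Etcore.PullCoh Groth.Agent.Etcore.HpullCalc
open Groth.Agent.Etcore.HC Groth.Agent.Etcore.GmFun Groth.Agent.Etcore.KummerCls
open Groth.Agent.Sga7.H731.ClsPull
open Groth.Agent.Fdesc.LocGen Groth.Agent.CurvesA.PicOfH1 Groth.Agent.CurvesA.GmSect
open Groth.Agent.CurvesA.H1GmPic

namespace K733.PicNat

variable {X Y : Scheme.{u}} (f : X ⟶ Y)

/-- pullback of local generators -/
noncomputable def pullGen {L : Y.Modules} (p : Gen L) : Gen ((Scheme.Modules.pullback f).obj L) :=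
  ⟨f ⁻¹ᵁ p.U, pullSec f p.e, p.gen.pullSec f⟩

theorem ratio_pullGen {L : Y.Modules} {Z W : Scheme.{u}} {h : Z ⟶ Y} {k : W ⟶ X} {a : W ⟶ Z}
    (hw : a ≫ h = k ≫ f) {p q : Gen L} {u : (Γ(Z, ⊤))ˣ} (hu : Ratio h p q u) :
    Ratio k (pullGen f p) (pullGen f q) (Units.map (a.appTop.hom : _ →* _) u) := by
  obtain ⟨V, hp, hq, hV, b, hb, hbu⟩ := hu
  have hV' : ⊤ ≤ k ⁻¹ᵁ (f ⁻¹ᵁ V) := by
    rw [← Scheme.Hom.comp_preimage, ← hw, Scheme.Hom.comp_preimage]
    exact a.preimage_mono hV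
  refine ⟨f ⁻¹ᵁ V, f.preimage_mono hp, f.preimage_mono hq, hV', f.app V b, ?_, ?_⟩
  · have h1 := congrArg (pullSec f) hb
    rw [pullSec_smul, ← res_pullSec, ← res_pullSec] at h1
    exact h1
  · change _ = a.appTop.hom (u : Γ(Z, ⊤))
    rw [← hbu]
    have hV2 : ⊤ ≤ (a ≫ h) ⁻¹ᵁ V := by
      rw [Scheme.Hom.comp_preimage]
      exact a.preimage_mono hV
    have hV3 : ⊤ ≤ (k ≫ f) ⁻¹ᵁ V := by
      rw [Scheme.Hom.comp_preimage]
      exact hV'
    rw [pb_comp h a hV hV2, pb_congr hw hV2 hV3]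
    unfold pb
    have h2 : f.app V = f.appLE V (f ⁻¹ᵁ V) le_rfl := (Scheme.Hom.appLE_eq_app f).symm
    rw [h2, ← CommRingCat.comp_apply, Scheme.Hom.appLE_comp_appLE]

theorem clsL_eq_cl {X : Scheme.{u}} (L : X.Modules) (hL : PicF.IsInvertible L) :
    clsL L hL = cl (EtCoh.Gm X) (D L) (supp_mem hL (EtCoh.top X)) := by
  have h : hTop X = EtCore.topIsTerminal X := Subsingleton.elim _ _
  unfold clsL cl
  rw [h]

/-- **Naturality of the class of an invertible module.** -/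
theorem HG_clsL (L : Y.Modules) (hL : PicF.IsInvertible L) :
    HG f 1 (clsL L hL) = clsL ((Scheme.Modules.pullback f).obj L) (isInvertible_pullback f hL) := by
  have hle : ∀ (U : Y.Etale) (p : Gen L), ⊤ ≤ U.hom ⁻¹ᵁ p.U →
      ⊤ ≤ ((EtCoh.bc f).obj U).hom ⁻¹ᵁ (pullGen f p).U := by
    intro U p hp
    have hw : bcFst f U ≫ U.hom = ((EtCoh.bc f).obj U).hom ≫ f := pullback.condition
    change ⊤ ≤ ((EtCoh.bc f).obj U).hom ⁻¹ᵁ (f ⁻¹ᵁ p.U)
    rw [← Scheme.Hom.comp_preimage, ← hw, Scheme.Hom.comp_preimage]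
    exact (bcFst f U).preimage_mono hp
  rw [clsL_eq_cl, clsL_eq_cl, HG]
  refine hpl_cl f (gmp f) (D L) (D ((Scheme.Modules.pullback f).obj L))
    (fun U p => ⟨⟨pullGen f p.down.1, hle U p.down.1 p.down.2⟩⟩) (fun g p => rfl) ?_ _ _
  intro U p q
  apply toU.injective
  have hw : bcFst f U ≫ U.hom = ((EtCoh.bc f).obj U).hom ≫ f := pullback.condition
  have h1 := ratio_pullGen f hw (D_spec (op U) p q)
  have h2 := D_spec (L := (Scheme.Modules.pullback f).obj L) (op ((EtCoh.bc f).obj U))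
    ⟨⟨pullGen f p.down.1, hle U p.down.1 p.down.2⟩⟩ ⟨⟨pullGen f q.down.1, hle U q.down.1 q.down.2⟩⟩
  refine h2.unique ?_
  have h3 : toU (adjs f (gmp f) U ((D L).d (op U) p q)) =
      Units.map ((bcFst f U).appTop.hom : _ →* _) (toU ((D L).d (op U) p q)) := by
    have h4 : adjs f (gmp f) U ((D L).d (op U) p q) =
        (gmUnit f).hom.app (op U) ((D L).d (op U) p q) := by
      rw [adjs_apply]
      exact gmp_eta f U _
    rw [h4]
    rfl
  rw [h3]
  exact h1

/-- Surjectivity on `H¹(-, G_m)` from surjectivity on invertible modules. -/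
theorem HG_one_surjective (h : ∀ L₀ : X.Modules, PicF.IsInvertible L₀ →
      ∃ L : Y.Modules, PicF.IsInvertible L ∧ Nonempty ((Scheme.Modules.pullback f).obj L ≅ L₀)) :
    Function.Surjective (HG f 1) := by
  intro x
  obtain ⟨L₀, hL₀, rfl⟩ := exists_clsL_eq (X := X) x
  obtain ⟨L, hL, ⟨e⟩⟩ := h L₀ hL₀
  exact ⟨clsL L hL, (HG_clsL f L hL).trans (clsL_congr _ _ e)⟩

end K733.PicNat
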