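import Groth.Agent.Sga5.H849.Val
import Groth.Agent.Sga5.H849.SectReg
import Groth.Agent.Sga4B.RelCurveFibre
import Groth.Agent.Picfga.RatPts
import Groth.Agent.Curves.K317.SmoothCurve
import Groth.Agent.S0231

/-!
# `H¹(C, G_m) / n` comes from the curve over the separably closed base field

`X` a smooth geometrically connected curve over a separably closed field `k`, `C` its (proper) base change to
an algebraically closed field `K`, `n` invertible: `H¹(X, G_m) → H¹(C, G_m) / n` is surjective.
-/

set_option autoImplicit false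
universe u
open CategoryTheory CategoryTheory.Limits AlgebraicGeometry Opposite Abelian Groth.Agent
open scoped Groth.Agent.Etcore.EtInst Groth.Agent.Etcore.HC
open Groth.Agent.Etcore.EtInst Groth.Agent.Etcore.PullCoh Groth.Agent.Etcore.HpullCalc
open Groth.Agent.Etcore.HC Groth.Agent.Etcore.GmFun Groth.Agent.Etcore.KummerCls
open Groth.Agent.Divis.CartierBasic Groth.Agent.Divis.CartierStalk Groth.Agent.Sga4h.DivLocal
  Groth.Agent.Sga4h.RegDiv Groth.Agent.Sga4h.GmDiv
open Groth.Agent.CurvesA
open Groth.Agent.CurvesA.DivPoint (IsDed)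
open Groth.Agent.CurvesA.CurveDeg (deg deg_single)
open Groth.Agent.Sga5.H849 Groth.Agent.Sga5.H849.OpenCls Groth.Agent.Sga5.H849.RegCls
  Groth.Agent.Sga5.H849.Val

namespace K733.PtClass

theorem ker_of_isPullback {P X Y Z : Scheme.{u}} {a : P ⟶ X} {b : P ⟶ Z} {f : X ⟶ Y} {i : Z ⟶ Y}
    [IsClosedImmersion i] (h : IsPullback a b f i) : a.ker = i.ker.comap f := by
  rw [← Scheme.IdealSheafData.ker_fst_of_isClosedImmersion, ← h.isoPullback_hom_fst,
    Scheme.Hom.ker_comp_of_isIso]

section

variable {k K : Type u} [Field k] [Field K] {X C : Scheme.{u}}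
  {p : X ⟶ Spec (CommRingCat.of k)} {b : C ⟶ Spec (CommRingCat.of K)} {t : C ⟶ X}
  {g : Spec (CommRingCat.of K) ⟶ Spec (CommRingCat.of k)} (sq : IsPullback t b p g)
  {σ : Spec (CommRingCat.of k) ⟶ X} (hσ : σ ≫ p = 𝟙 _)

/-- The base change of a section. -/
noncomputable def bs : Spec (CommRingCat.of K) ⟶ C :=
  sq.lift (g ≫ σ) (𝟙 _) (by rw [Category.assoc, hσ, Category.comp_id, Category.id_comp])

theorem bs_t : bs sq hσ ≫ t = g ≫ σ := sq.lift_fst _ _ _

theorem bs_b : bs sq hσ ≫ b = 𝟙 _ := sq.lift_snd _ _ _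

theorem isPullback_bs : IsPullback (bs sq hσ) g t σ := by
  refine (IsPullback.of_bot (h₂₁ := t) (v₂₁ := b) (v₂₂ := p) (h₃₁ := g) ?_ (bs_t sq hσ).symm sq).flip
  rw [bs_b, hσ]
  exact IsPullback.of_vert_isIso ⟨by rw [Category.id_comp, Category.comp_id]⟩

theorem isField_stalk_spec (y : Spec (CommRingCat.of K)) :
    IsField ((Spec (CommRingCat.of K)).presheaf.stalk y) := by
  have h1 : Subsingleton (Spec (CommRingCat.of K)) :=
    inferInstanceAs (Subsingleton (PrimeSpectrum K))
  have h2 : IsIntegral (Spec (CommRingCat.of K)) := inferInstance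
  have h3 : y = genericPoint (Spec (CommRingCat.of K)) := Subsingleton.elim _ _
  rw [h3]
  exact (inferInstance : Field (Spec (CommRingCat.of K)).functionField).toIsField

/-- The point of the spectrum of a field. -/
def o (K : Type u) [Field K] : ↥(Spec (CommRingCat.of K)) := IsLocalRing.closedPoint K

theorem apply_eq (x : Spec (CommRingCat.of K)) : x = o K := Subsingleton.elim _ _

/-- The multiplicities of the pullback of a section. -/
theorem map_stalkIdeal [IsSeparated p] (x : C) :
    (stalkIdeal σ.ker (t x)).map (t.stalkMap x).hom =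
      IsLocalRing.maximalIdeal (C.presheaf.stalk x) ^
        (open Classical in if x = bs sq hσ (o K) then 1 else 0) := by
  classical
  have hcl : IsClosedImmersion σ := Groth.Agent.Sga4B.RelSect.isClosedImmersion_section p σ hσ
  have hb : IsSeparated b := MorphismProperty.of_isPullback sq inferInstance
  have hcl' : IsClosedImmersion (bs sq hσ) :=
    Groth.Agent.Sga4B.RelSect.isClosedImmersion_section b _ (bs_b sq hσ)
  rw [← stalkIdeal_comap, ← ker_of_isPullback (isPullback_bs sq hσ)]
  split_ifs with hx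
  · subst hx
    rw [pow_one, ← ker_stalkMap]
    have hs := (bs sq hσ).stalkMap_surjective (o K)
    exact IsLocalRing.eq_maximalIdeal (Ideal.Quotient.maximal_of_isField _
      ((RingHom.quotientKerEquivOfSurjective hs).toMulEquiv.isField (isField_stalk_spec (o K))))
  · rw [pow_zero, Ideal.one_eq_top]
    apply (notMem_support_iff_stalkIdeal_eq_top _ _).1
    intro h
    have h1 : x ∈ Set.range (bs sq hσ) := by
      have h2 : ((bs sq hσ).ker.support : Set C) = Set.range (bs sq hσ) := by
        rw [Scheme.Hom.support_ker]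
        exact (bs sq hσ).isClosedEmbedding.isClosed_range.closure_eq
      rw [← h2]
      exact h
    obtain ⟨y, hy⟩ := h1
    apply hx
    rw [← hy, apply_eq y]

theorem surjective_g (g : Spec (CommRingCat.of K) ⟶ Spec (CommRingCat.of k)) : Surjective g :=
  ⟨fun _ => ⟨o K, Subsingleton.elim (α := PrimeSpectrum k) _ _⟩⟩

include sq hσ in
/-- The generic point of `C` is not mapped to a rational point of `X`. -/
theorem notMem_range [IsIntegral X] [IsIntegral C] [SmoothOfRelativeDimension 1 p] [IsSeparated p] :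
    t (genericPoint C) ∉ Set.range σ := by
  intro h
  have hcl : IsClosedImmersion σ := Groth.Agent.Sga4B.RelSect.isClosedImmersion_section p σ hσ
  have hs : Surjective t := by
    have := surjective_g g
    exact MorphismProperty.of_isPullback sq.flip inferInstance
  have h1 : IsClosed (t ⁻¹' (Set.range σ)) :=
    σ.isClosedEmbedding.isClosed_range.preimage t.continuous
  have h2 : (Set.univ : Set C) ⊆ t ⁻¹' (Set.range σ) := by
    rw [← genericPoint_closure (α := C)]
    exact h1.closure_subset_iff.2 (by simpa using h)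
  have h3 : ∀ x : X, x = σ (o k) := by
    intro x
    obtain ⟨c, rfl⟩ := hs.surj x
    obtain ⟨y, hy⟩ := h2 (Set.mem_univ c)
    rw [← hy, apply_eq y]
  have hdim : topologicalKrullDim X = 1 := by
    simpa using Groth.Agent.Sga4B.RelCurveFibre.topologicalKrullDim_eq p 1
  obtain ⟨x, hx⟩ := CurveDvr.exists_ne_genericPoint hdim
  exact hx ((h3 x).trans (h3 _).symm)

end

section Main

variable {k K : Type u} [Field k] [Field K] [IsAlgClosed K] {X C : Scheme.{u}}
  [IsIntegral X] [IsIntegral C]
  {p : X ⟶ Spec (CommRingCat.of k)} [SmoothOfRelativeDimension 1 p] [IsSeparated p]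
  {b : C ⟶ Spec (CommRingCat.of K)} [IsProper b] {t : C ⟶ X}
  {g : Spec (CommRingCat.of K) ⟶ Spec (CommRingCat.of k)} (sq : IsPullback t b p g)
  {σ : Spec (CommRingCat.of k) ⟶ X} (hσ : σ ≫ p = 𝟙 _)

omit [IsAlgClosed K] [IsProper b] in
include sq hσ in
/-- The class of the divisor of a rational point. -/
theorem exists_class [IsLocallyNoetherian C] [CompactSpace C] (hC : IsDed C) :
    ∃ (c : HH X (EtCoh.Gm X) 1) (x : {x : C // x ≠ genericPoint C}),
      HG t 1 c = DivCls.divCls hC (Finsupp.single x 1) := by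
  classical
  have hreg : IsRegDiv σ :=
    SectReg.isRegDiv_section (𝟙 (Spec (CommRingCat.of k))) p σ hσ
  have hcl : IsClosedImmersion σ := hreg.closed
  let U : X.Opens := ⟨(Set.range σ)ᶜ, σ.isClosedEmbedding.isClosed_range.isOpen_compl⟩
  have hU : Set.range U.ι = (Set.range σ)ᶜ := Scheme.Opens.range_ι _
  have hmono : Mono (gmUnit U.ι) := mono_gmUnit hreg hU
  have hgen : t (genericPoint C) ∉ Set.range σ := notMem_range sq hσ
  let d : Spec (C.presheaf.stalk (genericPoint C)) ⟶ U.toScheme :=
    IsOpenImmersion.lift U.ι (C.fromSpecStalk (genericPoint C) ≫ t) (by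
      rw [Scheme.Opens.range_ι]
      rintro _ ⟨y, rfl⟩
      have h1 : C.fromSpecStalk (genericPoint C) y ⤳ genericPoint C := by
        have h2 : C.fromSpecStalk (genericPoint C) y ∈
          Set.range (C.fromSpecStalk (genericPoint C)) := ⟨y, rfl⟩
        rw [Scheme.range_fromSpecStalk] at h2
        exact h2
      have h3 : t (C.fromSpecStalk (genericPoint C) y) ⤳ t (genericPoint C) :=
        h1.map t.continuous
      rw [Scheme.Hom.comp_apply]
      exact h3.mem_open U.isOpen hgen)
  have hd : d ≫ U.ι = C.fromSpecStalk (genericPoint C) ≫ t := IsOpenImmersion.lift_fac _ _ _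
  have hx : bs sq hσ (o K) ≠ genericPoint C := by
    intro h
    apply hgen
    rw [← h, ← Scheme.Hom.comp_apply, bs_t, Scheme.Hom.comp_apply]
    exact ⟨_, rfl⟩
  refine ⟨cls U.ι (q hreg hU), ⟨bs sq hσ (o K), hx⟩, ?_⟩
  refine HG_cls_eq hreg hU hC t d hd _ (fun x => if x.1 = bs sq hσ (o K) then 1 else 0) ?_ ?_
  · intro x
    rw [Finsupp.single_apply]
    by_cases h : x.1 = bs sq hσ (o K)
    · rw [if_pos (Subtype.ext h.symm), if_pos h]
      rfl
    · rw [if_neg (fun h' => h (congrArg Subtype.val h').symm), if_neg h]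
      rfl
  · intro x
    exact map_stalkIdeal sq hσ x.1

include sq hσ in
/-- **`H¹(C, G_m) / n` comes from `X`.** -/
theorem exists_add (n : ℕ) (hn : (n : K) ≠ 0) (a : HH C (EtCoh.Gm C) 1) :
    ∃ (c : HH X (EtCoh.Gm X) 1) (e : HH C (EtCoh.Gm C) 1), HG t 1 c + n • e = a := by
  have hb : SmoothOfRelativeDimension 1 b := by
    have := smoothOfRelativeDimension_isStableUnderBaseChange.{u} 1
    exact MorphismProperty.of_isPullback (P := @SmoothOfRelativeDimension 1) sq ‹_›
  have hsm : Smooth b := SmoothOfRelativeDimension.smooth 1 b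
  have hdim : topologicalKrullDim C = 1 := by
    simpa using Groth.Agent.Sga4B.RelCurveFibre.topologicalKrullDim_eq b 1
  have hC : IsDed C := CurveDvr.isDiscreteValuationRing_stalk b hdim.le
  have hN : IsLocallyNoetherian C := LocallyOfFiniteType.isLocallyNoetherian b
  have hc : CompactSpace C := QuasiCompact.compactSpace_of_compactSpace b
  obtain ⟨c, x, hcx⟩ := exists_class sq hσ hC
  obtain ⟨D, rfl⟩ := DivCls.divCls_surjective hC (Groth.Agent.S0231.result K C b hdim 1 le_rfl) a
  have h1 : (n : ℤ) ∣ deg C (D - deg C D • Finsupp.single x 1) := by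
    rw [map_sub, map_zsmul, deg_single, smul_eq_mul, mul_one, sub_self]
    exact dvd_zero _
  obtain ⟨e, he⟩ := PicMod.exists_nsmul b hC hdim n hn _ h1
  refine ⟨deg C D • c, e, ?_⟩
  rw [he, map_zsmul, hcx, ← map_zsmul, ← map_add]
  congr 1
  abel

end Main

end K733.PtClass
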